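import Groth.Agent.KleimanOrbitLib.Sub
import Groth.Agent.S15241

/-!
# General translates meet orbit by orbit in the expected dimension
-/

set_option autoImplicit false
set_option backward.isDefEq.respectTransparency false

universe u

open CategoryTheory CategoryTheory.Limits MonoidalCategory CartesianMonoidalCategory AlgebraicGeometry
open TopologicalSpace Topology OrbitLib KleimanFlatLib
open scoped MonObj

noncomputable section

namespace KleimanOrbitLib

theorem dim_image_val {A : Type u} [TopologicalSpace A] {S : Set A} (C : Set ↥S) :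
    topologicalKrullDim ↥(Subtype.val '' C : Set A) = topologicalKrullDim ↥C := by
  let e : ↥C ≃ₜ ↥(Subtype.val '' C : Set A) :=
    (IsEmbedding.subtypeVal.comp IsEmbedding.subtypeVal).toHomeomorph.trans
      (Homeomorph.setCongr (by rw [Set.range_comp, Subtype.range_coe]))
  exact (IsHomeomorph.topologicalKrullDim_eq _ e.isHomeomorph).symm

theorem dim_mono {A : Type u} [TopologicalSpace A] {S T : Set A} (h : S ⊆ T) :
    topologicalKrullDim ↥S ≤ topologicalKrullDim ↥T :=
  (IsEmbedding.inclusion h).isInducing.topologicalKrullDim_le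

theorem exists_nat_dim {A : Type u} [TopologicalSpace A] {S : Set A} (hS : S.Nonempty) {N : ℕ}
    (h : topologicalKrullDim ↥S ≤ (N : WithBot ℕ∞)) : ∃ m : ℕ, topologicalKrullDim ↥S = (m : WithBot ℕ∞) := by
  obtain ⟨c, hc⟩ := hS
  have h0 : 0 ≤ topologicalKrullDim ↥S := by
    haveI : Nonempty (IrreducibleCloseds ↥S) :=
      ⟨⟨irreducibleComponent (⟨c, hc⟩ : S), isIrreducible_irreducibleComponent, isClosed_irreducibleComponent⟩⟩
    exact Order.krullDim_nonneg
  revert h0 h
  cases topologicalKrullDim ↥S with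
  | bot => intro _ h0; exact absurd h0 (by simp)
  | coe v => cases v with
    | top => intro h1 _; exact absurd (top_le_iff.mp (WithBot.coe_le_coe.mp h1 : (⊤ : ℕ∞) ≤ (N : ℕ∞))) (ENat.natCast_ne_top N)
    | coe v => intro _ _; exact ⟨v, rfl⟩

/-- The closure of a point of a closed set is dominated by a component through it. -/
theorem exists_component_closure_le {A : Type u} [TopologicalSpace A] {S : Set A} (hS : IsClosed S) {p : A}
    (hp : p ∈ S) : ∃ C ∈ irreducibleComponents ↥S,
      (⟨p, hp⟩ : ↥S) ∈ C ∧ topologicalKrullDim ↥(closure ({p} : Set A)) ≤ topologicalKrullDim ↥C := by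
  refine ⟨irreducibleComponent ⟨p, hp⟩, irreducibleComponent_mem_irreducibleComponents _, mem_irreducibleComponent, ?_⟩
  rw [← dim_image_val]
  refine dim_mono (closure_minimal (Set.singleton_subset_iff.mpr ⟨_, mem_irreducibleComponent, rfl⟩) ?_)
  exact hS.isClosedEmbedding_subtypeVal.isClosedMap _ isClosed_irreducibleComponent

theorem exists_open_forall {A : Type u} [TopologicalSpace A] [IrreducibleSpace A] {J : Type*} {s : Set J}
    (hs : s.Finite) (P : J → Set A → Prop) (hmono : ∀ i (U V : Set A), U ⊆ V → P i V → P i U)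
    (h : ∀ i ∈ s, ∃ V : Opens A, (V : Set A).Nonempty ∧ P i V) :
    ∃ V : Opens A, (V : Set A).Nonempty ∧ ∀ i ∈ s, P i V := by
  induction s, hs using Set.Finite.induction_on with
  | empty => exact ⟨⊤, Set.univ_nonempty, fun _ hi => absurd hi (Set.notMem_empty _)⟩
  | @insert j s _ _ ih =>
    obtain ⟨V, hV, hP⟩ := ih fun i hi => h i (Set.mem_insert_of_mem j hi)
    obtain ⟨W, hW, hQ⟩ := h j (Set.mem_insert j s)
    refine ⟨V ⊓ W, nonempty_preirreducible_inter V.isOpen W.isOpen hV hW, fun i hi => ?_⟩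
    rcases hi with rfl | hi
    · exact hmono _ _ _ Set.inter_subset_right hQ
    · exact hmono _ _ _ Set.inter_subset_left (hP i hi)

variable {k : Type u} [Field k] {G X : Over (Spec (CommRingCat.of k))} [GrpObj G] (a : AlgGrp.Action G X)

/-- `Y` meets the closure of every orbit in the expected dimension. -/
def ProperOrbits (n r : ℕ) (Y : Set X.left) : Prop :=
  ∀ (x : 𝟙_ (Over (Spec (CommRingCat.of k))) ⟶ X) (d : ℕ),
    topologicalKrullDim ↥(closure (orbit a x)) = d →
      ∀ C ∈ irreducibleComponents ↥(Y ∩ closure (orbit a x)),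
        n ≤ r + d ∧ topologicalKrullDim ↥C = ((r + d - n : ℕ) : WithBot ℕ∞)

variable [IsAlgClosed k] [CharZero k] [IsIntegral G.left] [IsSeparated G.hom] [LocallyOfFiniteType G.hom]
  [QuasiCompact G.hom] [IsSeparated X.hom] [LocallyOfFiniteType X.hom] [QuasiCompact X.hom]

theorem orbit_bound (n r s : ℕ) (Y₁ Y₂ : Set X.left) (h₁c : IsClosed Y₁) (h₂c : IsClosed Y₂)
    (hn : topologicalKrullDim ↥X.left = n) (h₁ : ProperOrbits a n r Y₁) (h₂ : ProperOrbits a n s Y₂)
    (x : 𝟙_ (Over (Spec (CommRingCat.of k))) ⟶ X) :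
    ∃ V : G.left.Opens, (V : Set G.left).Nonempty ∧
      ∀ σ : 𝟙_ (Over (Spec (CommRingCat.of k))) ⟶ G, Set.range σ.left.base ⊆ (V : Set G.left) →
        ∀ w ∈ (tr a σ).left.base '' Y₁ ∩ Y₂, w ∈ orbit a x → ∀ d : ℕ,
          topologicalKrullDim ↥(closure (orbit a x)) = d →
            ∃ m : ℕ, topologicalKrullDim ↥(closure ({w} : Set X.left)) = m ∧ m + 2 * n ≤ r + s + d := by
  obtain ⟨Z, i, b, hi, hZi, hZs, hZl, hZq, hir, htrans, heq⟩ := exists_orbit_variety a x
  haveI : CompactSpace X.left := QuasiCompact.compactSpace_of_compactSpace X.hom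
  haveI : CompactSpace Z.left := QuasiCompact.compactSpace_of_compactSpace Z.hom
  haveI : IsLocallyNoetherian Z.left := LocallyOfFiniteType.isLocallyNoetherian Z.hom
  haveI : IsNoetherian Z.left := {}
  have hle : ∀ S : Set X.left, topologicalKrullDim ↥S ≤ (n : WithBot ℕ∞) :=
    fun S => hn ▸ topologicalKrullDim_subspace_le _ S
  obtain ⟨d, hd⟩ := exists_nat_dim ((orbit_nonempty a x).mono subset_closure) (hle (closure (orbit a x)))
  have hZd : topologicalKrullDim ↥Z.left = d := by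
    rw [← hd]
    obtain ⟨gz, hgz, hgzd⟩ := FibDimLib.exists_generic_closure_dim (A := Z.left)
    rw [hgzd, dim_closure_immersion i.left gz]
    have hu : closure ({gz} : Set Z.left) = Set.univ := by
      rw [irreducibleComponents_eq_singleton] at hgz
      exact hgz
    have : closure ({i.left gz} : Set X.left) = closure (orbit a x) := by
      rw [← hir, ← Set.image_univ, ← hu, closure_image_closure i.left.continuous, Set.image_singleton]
    rw [this]
  -- dimensions of the pieces of `Y` on the orbit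
  have hpiece : ∀ (Y : Set X.left) (t : ℕ), IsClosed Y → ProperOrbits a n t Y →
      ∀ A : Set Z.left, A ∈ (Set.image Subtype.val '' irreducibleComponents ↥(i.left.base ⁻¹' Y)) →
        IsClosed A ∧ IsIrreducible A ∧
          ∃ e : ℕ, topologicalKrullDim ↥A = e ∧ e + n ≤ t + d := by
    rintro Y t hY hP _ ⟨A, hA, rfl⟩
    have hS : IsClosed (i.left.base ⁻¹' Y) := hY.preimage i.left.continuous
    have hAc : IsClosed (Subtype.val '' A : Set Z.left) :=
      hS.isClosedEmbedding_subtypeVal.isClosedMap _ (isClosed_of_mem_irreducibleComponents A hA)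
    have hAi : IsIrreducible (Subtype.val '' A : Set Z.left) :=
      hA.1.image _ continuous_subtype_val.continuousOn
    refine ⟨hAc, hAi, ?_⟩
    obtain ⟨α, hα⟩ := QuasiSober.sober hAi hAc
    obtain ⟨α', -, hα'⟩ := hα.mem
    have hmem : i.left α ∈ Y ∩ closure (orbit a x) :=
      ⟨by rw [← hα']; exact α'.2, subset_closure (hir ▸ ⟨α, rfl⟩)⟩
    obtain ⟨C, hC, -, hCd⟩ := exists_component_closure_le (hY.inter isClosed_closure) hmem
    obtain ⟨hnt, hCdim⟩ := hP x d hd C hC
    rw [hCdim, ← dim_closure_immersion i.left α, hα.def] at hCd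
    obtain ⟨e, he⟩ := exists_nat_dim hAi.nonempty hCd
    refine ⟨e, he, ?_⟩
    rw [he] at hCd
    have : e ≤ t + d - n := by exact_mod_cast hCd
    omega
  let 𝒜 : Set (Set Z.left) := (Set.image Subtype.val '' irreducibleComponents ↥(i.left.base ⁻¹' Y₁))
  let ℬ : Set (Set Z.left) := (Set.image Subtype.val '' irreducibleComponents ↥(i.left.base ⁻¹' Y₂))
  have hfin : (𝒜 ×ˢ ℬ).Finite :=
    (NoetherianSpace.finite_irreducibleComponents.image _).prod (NoetherianSpace.finite_irreducibleComponents.image _)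
  obtain ⟨V, hV, hVP⟩ := exists_open_forall (A := G.left) hfin
    (fun p U => ∀ σ : 𝟙_ (Over (Spec (CommRingCat.of k))) ⟶ G, Set.range σ.left.base ⊆ U →
      ∀ e₁ e₂ : ℕ, topologicalKrullDim ↥p.1 = e₁ → topologicalKrullDim ↥p.2 = e₂ →
        (tr b σ).left.base '' p.1 ∩ p.2 = ∅ ∨ (d ≤ e₁ + e₂ ∧
          ∀ C ∈ irreducibleComponents ↥((tr b σ).left.base '' p.1 ∩ p.2),
            topologicalKrullDim ↥C = ((e₁ + e₂ - d : ℕ) : WithBot ℕ∞)))
    (fun p U W hUW h σ hσ => h σ (hσ.trans hUW)) (by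
      rintro ⟨A, B⟩ ⟨hA, hB⟩
      obtain ⟨hAc, hAi, e₁, he₁, -⟩ := hpiece Y₁ r h₁c h₁ A hA
      obtain ⟨hBc, hBi, e₂, he₂, -⟩ := hpiece Y₂ s h₂c h₂ B hB
      obtain ⟨V, hV, h⟩ := Groth.Agent.S15241.result k G Z b htrans A B hAc hAi hBc hBi d e₁ e₂ hZd he₁ he₂
      refine ⟨V, hV, fun σ hσ e e' he he' => ?_⟩
      obtain rfl : e = e₁ := by exact_mod_cast he.symm.trans he₁
      obtain rfl : e' = e₂ := by exact_mod_cast he'.symm.trans he₂
      exact h σ hσ)
  refine ⟨V, hV, fun σ hσ w hw hwx d' hd' => ?_⟩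
  obtain rfl : d' = d := by exact_mod_cast hd'.symm.trans hd
  obtain ⟨⟨y, hy, rfl⟩, hw₂⟩ := hw
  have hyx : y ∈ orbit a x := by
    have h := invariant_tr a (invariant_orbit a x) σ⁻¹ hwx
    rwa [← Scheme.Hom.comp_apply, ← Over.comp_left, tr_comp, inv_mul_cancel, tr_one] at h
  obtain ⟨z', rfl⟩ := hir.ge hyx
  let z := (tr b σ).left z'
  have hz : i.left z = (tr a σ).left (i.left z') := by
    rw [← Scheme.Hom.comp_apply, ← Over.comp_left, heq, Over.comp_left, Scheme.Hom.comp_apply]
  rw [← hz] at hw₂ ⊢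
  let A : Set Z.left := Subtype.val '' irreducibleComponent (⟨z', hy⟩ : ↥(i.left.base ⁻¹' Y₁))
  let B : Set Z.left := Subtype.val '' irreducibleComponent (⟨z, hw₂⟩ : ↥(i.left.base ⁻¹' Y₂))
  have hA : A ∈ 𝒜 := ⟨_, irreducibleComponent_mem_irreducibleComponents _, rfl⟩
  have hB : B ∈ ℬ := ⟨_, irreducibleComponent_mem_irreducibleComponents _, rfl⟩
  obtain ⟨hAc, -, e₁, he₁, hle₁⟩ := hpiece Y₁ r h₁c h₁ A hA
  obtain ⟨hBc, -, e₂, he₂, hle₂⟩ := hpiece Y₂ s h₂c h₂ B hB
  have hzW : z ∈ (tr b σ).left.base '' A ∩ B :=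
    ⟨⟨z', ⟨⟨z', hy⟩, mem_irreducibleComponent, rfl⟩, rfl⟩, ⟨⟨z, hw₂⟩, mem_irreducibleComponent, rfl⟩⟩
  rcases hVP (A, B) ⟨hA, hB⟩ σ hσ e₁ e₂ he₁ he₂ with he | ⟨hde, hcomp⟩
  · exact absurd hzW (by rw [he]; exact Set.notMem_empty _)
  haveI : IsIso (tr b σ).left := inferInstanceAs (IsIso ((Over.forget _).map (tr b σ)))
  have hclosed : IsClosed ((tr b σ).left.base '' A ∩ B) :=
    ((tr b σ).left.isClosedEmbedding.isClosedMap _ hAc).inter hBc
  obtain ⟨C, hC, -, hCd⟩ := exists_component_closure_le hclosed hzW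
  rw [hcomp C hC, dim_closure_immersion i.left z] at hCd
  obtain ⟨m, hm⟩ := exists_nat_dim (show (closure ({i.left z} : Set X.left)).Nonempty from ⟨_, subset_closure rfl⟩) hCd
  refine ⟨m, hm, ?_⟩
  rw [hm] at hCd
  have : m ≤ e₁ + e₂ - d' := by exact_mod_cast hCd
  omega

end KleimanOrbitLib
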