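import Groth.Agent.KleimanOrbitLib.Bound
import Groth.Agent.MiscFlat6.TopDimCovers

/-!
# One open set of translates for all orbits
-/

set_option autoImplicit false
set_option backward.isDefEq.respectTransparency false

universe u

open CategoryTheory CategoryTheory.Limits MonoidalCategory CartesianMonoidalCategory AlgebraicGeometry
open TopologicalSpace Topology OrbitLib KleimanFlatLib
open scoped MonObj

noncomputable section

namespace KleimanOrbitLib

theorem isIrreducible_of_image_val {A : Type u} [TopologicalSpace A] {S : Set A} (D : Set ↥S)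
    (h : IsIrreducible (Subtype.val '' D : Set A)) : IsIrreducible D := by
  let e : ↥D ≃ₜ ↥(Subtype.val '' D : Set A) :=
    (IsEmbedding.subtypeVal.comp IsEmbedding.subtypeVal).toHomeomorph.trans
      (Homeomorph.setCongr (by rw [Set.range_comp, Subtype.range_coe]))
  haveI : IrreducibleSpace ↥(Subtype.val '' D : Set A) := Subtype.irreducibleSpace h
  exact isIrreducible_iff_irreducibleSpace.mpr (e.irreducibleSpace_iff.mpr inferInstance)

/-- A component of a larger set lying in a smaller one is a component of it. -/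
theorem component_of_subset {A : Type u} [TopologicalSpace A] {S T : Set A} (hST : S ⊆ T) {C : Set ↥T}
    (hC : C ∈ irreducibleComponents ↥T) (hCS : Subtype.val '' C ⊆ S) :
    ∃ D ∈ irreducibleComponents ↥S, topologicalKrullDim ↥D = topologicalKrullDim ↥C := by
  let D : Set ↥S := Subtype.val ⁻¹' (Subtype.val '' C)
  have hD : (Subtype.val '' D : Set A) = Subtype.val '' C := by
    rw [Set.image_preimage_eq_inter_range, Subtype.range_coe, Set.inter_eq_left.mpr hCS]
  have hDi : IsIrreducible D :=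
    isIrreducible_of_image_val D (hD.symm ▸ hC.1.image _ continuous_subtype_val.continuousOn)
  refine ⟨D, ⟨hDi, fun E hE hDE => ?_⟩, by rw [← dim_image_val D, ← dim_image_val C, hD]⟩
  let E' : Set ↥T := Set.inclusion hST '' E
  have hE' : IsIrreducible E' := hE.image _ (continuous_inclusion hST).continuousOn
  have hCE : C ⊆ E' := fun c hc => by
    obtain ⟨e, he, hec⟩ := hD.ge ⟨c, hc, rfl⟩
    exact ⟨e, hDE he, Subtype.ext hec⟩
  intro e he
  exact ⟨Set.inclusion hST e, hC.2 hE' hCE ⟨e, he, rfl⟩, rfl⟩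

theorem dim_closure_point_of_isGenericPoint {A : Type u} [TopologicalSpace A] {C : Set A} {p : A}
    (h : IsGenericPoint p C) : topologicalKrullDim ↥(closure ({p} : Set A)) = topologicalKrullDim ↥C := by
  rw [h.def]

variable {k : Type u} [Field k] [IsAlgClosed k] [CharZero k] {G X : Over (Spec (CommRingCat.of k))} [GrpObj G]
  (a : AlgGrp.Action G X) [IsIntegral G.left] [IsSeparated G.hom] [LocallyOfFiniteType G.hom]
  [QuasiCompact G.hom] [IsSeparated X.hom] [LocallyOfFiniteType X.hom] [QuasiCompact X.hom]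

/-- For general translates each point lies in the expected dimension for its orbit. -/
theorem exists_bound
    (hfin : Set.Finite {S : Set ↥X.left | ∃ x : 𝟙_ (Over (Spec (CommRingCat.of k))) ⟶ X, S = orbit a x})
    (n r s : ℕ) (Y₁ Y₂ : Set X.left) (h₁c : IsClosed Y₁) (h₂c : IsClosed Y₂)
    (hn : topologicalKrullDim ↥X.left = n) (h₁ : ProperOrbits a n r Y₁) (h₂ : ProperOrbits a n s Y₂) :
    ∃ V : G.left.Opens, (V : Set G.left).Nonempty ∧
      ∀ σ : 𝟙_ (Over (Spec (CommRingCat.of k))) ⟶ G, Set.range σ.left.base ⊆ (V : Set G.left) →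
        ∀ w ∈ (tr a σ).left.base '' Y₁ ∩ Y₂, ∃ (x : 𝟙_ (Over (Spec (CommRingCat.of k))) ⟶ X) (d m : ℕ),
          w ∈ orbit a x ∧ topologicalKrullDim ↥(closure (orbit a x)) = d ∧ d ≤ n ∧
            topologicalKrullDim ↥(closure ({w} : Set X.left)) = m ∧ m + 2 * n ≤ r + s + d := by
  obtain ⟨V, hV, hVP⟩ := exists_open_forall (A := G.left) hfin
    (fun S U => ∀ σ : 𝟙_ (Over (Spec (CommRingCat.of k))) ⟶ G, Set.range σ.left.base ⊆ U →
      ∀ w ∈ (tr a σ).left.base '' Y₁ ∩ Y₂, w ∈ S → ∀ d : ℕ, topologicalKrullDim ↥(closure S) = d →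
        ∃ m : ℕ, topologicalKrullDim ↥(closure ({w} : Set X.left)) = m ∧ m + 2 * n ≤ r + s + d)
    (fun S U W hUW h σ hσ => h σ (hσ.trans hUW)) (by
      rintro S ⟨x, rfl⟩
      exact orbit_bound a n r s Y₁ Y₂ h₁c h₂c hn h₁ h₂ x)
  refine ⟨V, hV, fun σ hσ w hw => ?_⟩
  obtain ⟨x, hx⟩ := exists_mem_orbit a hfin w
  have hle := hn ▸ topologicalKrullDim_subspace_le _ (closure (orbit a x))
  obtain ⟨d, hd⟩ := exists_nat_dim ((orbit_nonempty a x).mono subset_closure) hle
  obtain ⟨m, hm, hmd⟩ := hVP _ ⟨x, rfl⟩ σ hσ w hw hx d hd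
  refine ⟨x, d, m, hx, hd, ?_, hm, hmd⟩
  rw [hd] at hle
  exact_mod_cast hle

/-- An orbit of full dimension in a variety is open. -/
theorem isOpen_orbit [IsIntegral X.left] (n : ℕ) (hn : topologicalKrullDim ↥X.left = n)
    (x : 𝟙_ (Over (Spec (CommRingCat.of k))) ⟶ X) (hd : topologicalKrullDim ↥(closure (orbit a x)) = n) :
    IsOpen (orbit a x) := by
  have hcl : closure (orbit a x) = Set.univ := by
    by_contra hne
    have h := MiscFlat6.dim_lt_of_ssubset (by rw [hn]; exact WithBot.coe_injective.ne (ENat.natCast_ne_top n))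
      isClosed_closure hne
    rw [hd, hn] at h
    exact lt_irrefl _ h
  obtain ⟨O, F, hO, hF, hOF⟩ := isLocallyClosed_orbit a x
  have hFu : F = Set.univ := by
    rw [← Set.univ_subset_iff, ← hcl]
    exact closure_minimal (fun c hc => (hOF ▸ hc : c ∈ O ∩ F).2) hF
  rw [hOF, hFu, Set.inter_univ]
  exact hO

end KleimanOrbitLib
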