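import Groth.Agent.KleimanFlatLib.Translate
import Groth.Agent.DevissLib.ClosedImm
import Groth.Agent.OrbitLib.Main
import Groth.Agent.EtShLib.StrataTop
import Groth.Agent.AlbLib.AVBasic
import Groth.Agent.FibDimLib.ClosureDim

/-!
# Orbits as homogeneous spaces
-/

set_option autoImplicit false
set_option backward.isDefEq.respectTransparency false

universe u

open CategoryTheory CategoryTheory.Limits MonoidalCategory CartesianMonoidalCategory AlgebraicGeometry
open TopologicalSpace Topology OrbitLib KleimanFlatLib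
open scoped MonObj

noncomputable section

namespace KleimanOrbitLib

variable {k : Type u} [Field k] {G X : Over (Spec (CommRingCat.of k))} [GrpObj G] (a : AlgGrp.Action G X)

theorem invariant_tr {D : Set X.left} (hD : Invariant a D) (σ : 𝟙_ (Over (Spec (CommRingCat.of k))) ⟶ G)
    {w : X.left} (hw : w ∈ D) : (tr a σ).left w ∈ D := by
  rw [tr, Over.comp_left, Scheme.Hom.comp_apply]
  refine hD.symm.subset (show (lift (toUnit X ≫ σ) (𝟙 X)).left w ∈ (snd G X).left ⁻¹' D from ?_)
  rw [Set.mem_preimage, ← Scheme.Hom.comp_apply, ← Over.comp_left, lift_snd]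
  exact hw

/-- Orbits meeting an invariant set lie in it. -/
theorem orbit_subset_of_mem {D : Set X.left} (hD : Invariant a D) (x : 𝟙_ (Over (Spec (CommRingCat.of k))) ⟶ X)
    {d : X.left} (hd : d ∈ orbit a x) (hdD : d ∈ D) : orbit a x ⊆ D := by
  intro c hc
  obtain ⟨w, hw1, hw2⟩ := exists_transport a x hc hd
  rw [← hw1]
  exact hD.symm.subset (show (snd G X).left w ∈ D from hw2.symm ▸ hdD)

theorem orbit_eq_of_inter (x y : 𝟙_ (Over (Spec (CommRingCat.of k))) ⟶ X) {d : X.left}
    (hx : d ∈ orbit a x) (hy : d ∈ orbit a y) : orbit a x = orbit a y :=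
  (orbit_subset_of_mem a (invariant_orbit a y) x hx hy).antisymm
    (orbit_subset_of_mem a (invariant_orbit a x) y hy hx)

theorem apply_toUnit_comp (y : 𝟙_ (Over (Spec (CommRingCat.of k))) ⟶ X)
    (h : 𝟙_ (Over (Spec (CommRingCat.of k))) ⟶ G) :
    h ≫ a.orbitMap y = lift h y ≫ a.act := by
  rw [comp_orbitMap, toUnit_unique (toUnit _) (𝟙 _), Category.id_comp]

theorem mem_orbit_self (x : 𝟙_ (Over (Spec (CommRingCat.of k))) ⟶ X) (q : (𝟙_ (Over (Spec (CommRingCat.of k)))).left) :
    x.left q ∈ orbit a x := by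
  refine ⟨(1 : 𝟙_ (Over (Spec (CommRingCat.of k))) ⟶ G).left q, ?_⟩
  rw [← Scheme.Hom.comp_apply, ← Over.comp_left, apply_toUnit_comp, GrpShear.lift_one_act]

/-- With finitely many orbits every point lies in an orbit. -/
theorem exists_mem_orbit [IsAlgClosed k] [LocallyOfFiniteType G.hom] [QuasiCompact G.hom]
    [LocallyOfFiniteType X.hom] [QuasiCompact X.hom]
    (hfin : Set.Finite {S : Set ↥X.left | ∃ x : 𝟙_ (Over (Spec (CommRingCat.of k))) ⟶ X, S = orbit a x})
    (p : X.left) : ∃ x : 𝟙_ (Over (Spec (CommRingCat.of k))) ⟶ X, p ∈ orbit a x := by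
  haveI : JacobsonSpace X.left := LocallyOfFiniteType.jacobsonSpace X.hom
  let 𝒪 := {S : Set ↥X.left | ∃ x : 𝟙_ (Over (Spec (CommRingCat.of k))) ⟶ X, S = orbit a x}
  have hsub : closure ({p} : Set X.left) ⊆ ⋃ S ∈ 𝒪, closure (S ∩ closure {p}) := by
    refine (JacobsonSpace.closure_inter_closedPoints isClosed_closure).ge.trans ?_
    refine closure_minimal (fun c hc => ?_) (hfin.isClosed_biUnion fun _ _ => isClosed_closure)
    let x : 𝟙_ (Over (Spec (CommRingCat.of k))) ⟶ X :=
      Over.homMk (pointOfClosedPoint X.hom c hc.2) (pointOfClosedPoint_comp _ _ _)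
    refine Set.mem_biUnion (x := orbit a x) ⟨x, rfl⟩ (subset_closure ⟨?_, hc.1⟩)
    have := mem_orbit_self a x (IsLocalRing.closedPoint k)
    rwa [show x.left (IsLocalRing.closedPoint k) = c from pointOfClosedPoint_apply _ _ _ _] at this
  obtain ⟨S, ⟨x, rfl⟩, hpS⟩ := Set.mem_iUnion₂.mp (hsub (subset_closure rfl))
  obtain ⟨O, F, hO, hF, hOF⟩ := isLocallyClosed_orbit a x
  obtain ⟨c, hc⟩ : (orbit a x ∩ closure {p}).Nonempty := closure_nonempty_iff.mp ⟨p, hpS⟩
  refine ⟨x, hOF ▸ ⟨?_, ?_⟩⟩
  · exact (specializes_iff_mem_closure.mpr hc.2).mem_open hO (hOF ▸ hc.1 : c ∈ O ∩ F).1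
  · exact closure_minimal (fun z hz => (hOF ▸ hz.1 : z ∈ O ∩ F).2) hF hpS

/-- Closures of points along immersions keep their dimension. -/
theorem dim_closure_immersion [LocallyOfFiniteType X.hom] {T : Scheme.{u}} (i : T ⟶ X.left) [IsImmersion i] (t : T) :
    topologicalKrullDim (closure ({t} : Set T)) = topologicalKrullDim (closure ({i t} : Set X.left)) := by
  let e := i.liftCoborder
  have h1 : topologicalKrullDim (closure ({t} : Set T)) =
      topologicalKrullDim (closure ({e t} : Set ↥i.coborderRange)) := by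
    have himg : e.base '' closure {t} = closure ({e t} : Set ↥i.coborderRange) := by
      rw [← e.isClosedEmbedding.closure_image_eq, Set.image_singleton]
    let H : closure ({t} : Set T) ≃ₜ (e.base '' closure {t} : Set ↥i.coborderRange) :=
      (IsEmbedding.comp e.isClosedEmbedding.isEmbedding IsEmbedding.subtypeVal).toHomeomorph.trans
        (Homeomorph.setCongr (by rw [Set.range_comp, Subtype.range_coe]))
    exact IsHomeomorph.topologicalKrullDim_eq _ (H.trans (Homeomorph.setCongr himg)).isHomeomorph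
  refine h1.trans ((FibDimLib.topologicalKrullDim_closure_of_isOpenEmbedding X.hom
    i.coborderRange.ι.isOpenEmbedding (e t)).trans ?_)
  rw [← Scheme.Hom.comp_apply, i.liftCoborder_ι]

/-- An orbit as a homogeneous variety. -/
theorem exists_orbit_variety [IsAlgClosed k] [CharZero k] [IsIntegral G.left] [LocallyOfFiniteType G.hom]
    [QuasiCompact G.hom] [IsSeparated X.hom] [LocallyOfFiniteType X.hom] [QuasiCompact X.hom]
    (x : 𝟙_ (Over (Spec (CommRingCat.of k))) ⟶ X) :
    ∃ (Z : Over (Spec (CommRingCat.of k))) (i : Z ⟶ X) (b : AlgGrp.Action G Z),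
      IsImmersion i.left ∧ IsIntegral Z.left ∧ IsSeparated Z.hom ∧ LocallyOfFiniteType Z.hom ∧ QuasiCompact Z.hom ∧
      Set.range i.left = orbit a x ∧
      (∀ z z' : 𝟙_ (Over (Spec (CommRingCat.of k))) ⟶ Z,
        ∃ σ : 𝟙_ (Over (Spec (CommRingCat.of k))) ⟶ G, lift σ z ≫ b.act = z') ∧
      ∀ σ : 𝟙_ (Over (Spec (CommRingCat.of k))) ⟶ G, tr b σ ≫ i = i ≫ tr a σ := by
  haveI : CompactSpace X.left := QuasiCompact.compactSpace_of_compactSpace X.hom
  haveI : IsLocallyNoetherian X.left := LocallyOfFiniteType.isLocallyNoetherian X.hom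
  haveI : IsNoetherian X.left := {}
  obtain ⟨O, i, hi, hOred, hO⟩ := Groth.Agent.EtShLib.exists_reduced_immersion (isLocallyClosed_orbit a x)
  haveI : Smooth G.hom := Groth.Agent.GrpSchLib.smooth_of_charZero (K := k) (G := G)
  let Oo : Over (Spec (CommRingCat.of k)) := Over.mk (i ≫ X.hom)
  let io : Oo ⟶ X := Over.homMk i rfl
  haveI : IsImmersion io.left := hi
  haveI : IsReduced Oo.left := hOred
  haveI : Mono io := Over.mono_of_mono_left io
  haveI : LocallyOfFiniteType Oo.hom := inferInstanceAs (LocallyOfFiniteType (i ≫ X.hom))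
  haveI : NoetherianSpace ↥O := i.isEmbedding.isInducing.noetherianSpace
  haveI : CompactSpace Oo.left := inferInstanceAs (CompactSpace O)
  haveI : QuasiCompact Oo.hom := quasiCompact_of_compactSpace _
  haveI : IsSeparated Oo.hom := inferInstanceAs (IsSeparated (i ≫ X.hom))
  haveI : IrreducibleSpace Oo.left := by
    have h : IsIrreducible (orbit a x) := by
      rw [orbit, ← Set.image_univ]
      exact (IrreducibleSpace.isIrreducible_univ _).image _ (a.orbitMap x).left.continuous.continuousOn
    haveI : IrreducibleSpace ↥(orbit a x) := Subtype.irreducibleSpace h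
    let e : ↥O ≃ₜ ↥(orbit a x) := i.isEmbedding.toHomeomorph.trans (Homeomorph.setCongr hO)
    exact e.irreducibleSpace_iff.mpr inferInstance
  haveI : IsIntegral Oo.left := isIntegral_of_irreducibleSpace_of_isReduced Oo.left
  haveI : IsReduced (G ⊗ Oo).left := by
    haveI : Smooth (snd G Oo).left := by rw [Over.snd_left]; infer_instance
    exact AlgSpLib.isReduced_of_smooth (snd G Oo).left
  have hr : Set.range ((G ◁ io) ≫ a.act).left ⊆ Set.range io.left := by
    rintro _ ⟨w, rfl⟩
    rw [show Set.range io.left = orbit a x from hO, Over.comp_left, Scheme.Hom.comp_apply]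
    refine (invariant_orbit a x).symm.subset (show (snd G X).left ((G ◁ io).left w) ∈ orbit a x from ?_)
    rw [← Scheme.Hom.comp_apply, ← Over.comp_left, whiskerLeft_snd, Over.comp_left, Scheme.Hom.comp_apply, ← hO]
    exact ⟨_, rfl⟩
  obtain ⟨l, hl⟩ := Groth.Agent.EtShLib.exists_lift_immersion io.left _ hr
  let act' : G ⊗ Oo ⟶ Oo := Over.homMk l (by
    rw [show Oo.hom = io.left ≫ X.hom from rfl, reassoc_of% hl, Over.w])
  have hact : act' ≫ io = (G ◁ io) ≫ a.act := Over.OverMorphism.ext hl
  let b : AlgGrp.Action G Oo :=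
    { act := act'
      one_act := by
        rw [← cancel_mono io, Category.assoc, hact, ← whisker_exchange_assoc, a.one_act, leftUnitor_naturality]
      mul_act := by
        rw [← cancel_mono io, Category.assoc, hact, ← whisker_exchange_assoc, a.mul_act,
          tensor_whiskerLeft, Category.assoc, Category.assoc, Iso.inv_hom_id_assoc, ← whiskerLeft_comp_assoc,
          ← hact, whiskerLeft_comp_assoc, Category.assoc, Category.assoc, hact] }
  refine ⟨Oo, io, b, inferInstance, inferInstance, inferInstance, inferInstance, inferInstance, hO, ?_, ?_⟩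
  · haveI : JacobsonSpace G.left := LocallyOfFiniteType.jacobsonSpace G.hom
    let q₀ := IsLocalRing.closedPoint k
    have key : ∀ z : 𝟙_ (Over (Spec (CommRingCat.of k))) ⟶ Oo,
        ∃ g : 𝟙_ (Over (Spec (CommRingCat.of k))) ⟶ G, lift g x ≫ a.act = z ≫ io := by
      intro z
      let w : X.left := (z ≫ io).left q₀
      have hw : w ∈ orbit a x := by rw [← hO]; exact ⟨z.left q₀, rfl⟩
      have hwc : IsClosed ({w} : Set X.left) := by
        have h := ((pointEquivClosedPoint X.hom) ⟨(z ≫ io).left, Over.w (z ≫ io)⟩).2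
        exact h
      obtain ⟨g, hg⟩ := exists_rational_point (X := G) (hwc.preimage (a.orbitMap x).left.continuous)
        (by obtain ⟨g, hg⟩ := hw; exact ⟨g, hg⟩)
      refine ⟨g, Over.OverMorphism.ext (ext_of_apply_closedPoint_eq X.hom (Over.w _) (Over.w _) ?_)⟩
      rw [← apply_toUnit_comp, Over.comp_left, Scheme.Hom.comp_apply]
      exact hg ⟨q₀, rfl⟩
    intro z z'
    obtain ⟨g, hg⟩ := key z
    obtain ⟨g', hg'⟩ := key z'
    refine ⟨g' * g⁻¹, ?_⟩
    rw [← cancel_mono io, Category.assoc, hact, lift_whiskerLeft_assoc, ← hg, ← GrpShear.lift_mul_act,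
      inv_mul_cancel_right, hg']
  · intro σ
    show (lift (toUnit Oo ≫ σ) (𝟙 Oo) ≫ act') ≫ io = io ≫ lift (toUnit X ≫ σ) (𝟙 X) ≫ a.act
    rw [Category.assoc, hact, lift_whiskerLeft_assoc, Category.id_comp, ← Category.assoc io, comp_lift,
      Category.comp_id, ← Category.assoc io, comp_toUnit]

end KleimanOrbitLib
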